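import Groth.Agent.Sga67.LocBasis
import Groth.Agent.VarietyB.PullLoc
import Groth.Agent.VarietyB.TensCoh

/-!
# Modules coming from the base when `O_S = f_* O_X`

* `isIso_unit` : `M ≅ f_* f^* M` for `M` finite locally free.
* `counit_of_iso` : if `E ≅ f^* M` then `f_* E ≅ M` and the counit `f^* f_* E ⟶ E` is an isomorphism.
-/

set_option autoImplicit false

universe u

open CategoryTheory CategoryTheory.Limits AlgebraicGeometry

namespace K245.DescUnit

open Groth.Agent
open Groth.Agent.Fdesc.LocGen (pullSec res ores IsGen pullSec_smul res_pullSec)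
open Groth.Agent.VarietyB.TensLoc (IsBasis)
open Groth.Agent.VarietyB.TensCoh (HasBases)
open Groth.Agent.VarietyB.PullLoc (isBasis_pullSec)

theorem isFinLocFree_of_iso {X : Scheme.{u}} {M N : X.Modules} (e : M ≅ N)
    (h : FlatMod.IsFinLocFree M) : FlatMod.IsFinLocFree N := fun x => by
  obtain ⟨U, hxU, n, ⟨i⟩⟩ := h x
  exact ⟨U, hxU, n, ⟨((Scheme.Modules.restrictFunctor U.ι).mapIso e).symm ≪≫ i⟩⟩

theorem isInvertible_of_iso {X : Scheme.{u}} {L M : X.Modules} (e : L ≅ M)
    (hL : PicF.IsInvertible L) : PicF.IsInvertible M := by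
  rw [Groth.Agent.Fdesc.LocGen.isInvertible_iff] at hL ⊢
  intro x
  obtain ⟨U, g, hx, hg⟩ := hL x
  exact ⟨U, e.hom.app U g, hx, hg.app e.hom⟩

/-- `M ≅ f_* f^* M` for `M` with local bases if `O_Y = f_* O_X`. -/
theorem isIso_unit_of_hasBases {X Y : Scheme.{u}} (f : X ⟶ Y) (hf : ∀ U : Y.Opens, IsIso (f.app U))
    {E : Y.Modules} (hE : HasBases E) :
    IsIso ((Scheme.Modules.pullbackPushforwardAdjunction f).unit.app E) := by
  refine Sga67.LocBasis.isIso_of_bijective _ fun x U hx => ?_
  obtain ⟨n, U', hx', e, he⟩ := hE x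
  refine ⟨U ⊓ U', inf_le_left, ⟨hx, hx'⟩, ?_⟩
  have hVU' : U ⊓ U' ≤ U' := inf_le_right
  have hb : Function.Bijective (f.app (U ⊓ U')) :=
    (ConcreteCategory.isIso_iff_bijective _).1 (hf (U ⊓ U'))
  generalize U ⊓ U' = V at hVU' hb ⊢
  have h1 := he V hVU'
  have h2 := isBasis_pullSec f he (f ⁻¹ᵁ V) (f.preimage_mono hVU')
  have h3 : Function.Bijective (fun (a : Fin n → Γ(Y, V)) (i : Fin n) => f.app V (a i)) :=
    Function.Bijective.piMap fun _ => hb
  have h4 : (fun m : Γ(E, V) => pullSec f m) ∘
      (fun a : Fin n → Γ(Y, V) => ∑ i, a i • Groth.Agent.VarietyB.TensLoc.res E hVU' (e i)) =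
      (fun a : Fin n → Γ(X, f ⁻¹ᵁ V) => ∑ i, a i •
        Groth.Agent.VarietyB.TensLoc.res ((Scheme.Modules.pullback f).obj E) (f.preimage_mono hVU')
          (pullSec f (e i))) ∘
      (fun (a : Fin n → Γ(Y, V)) (i : Fin n) => f.app V (a i)) := by
    funext a
    refine (map_sum (((Scheme.Modules.pullbackPushforwardAdjunction f).unit.app E).app V).hom _ _).trans ?_
    refine Finset.sum_congr rfl fun i _ => ?_
    refine (pullSec_smul f (a i) _).trans ?_
    congr 1
    exact (res_pullSec f hVU' (e i)).symm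
  have h5 := h2.comp h3
  rw [← h4] at h5
  exact (Function.Bijective.of_comp_iff _ h1).mp h5

/-- `M ≅ f_* f^* M` for `M` finite locally free if `O_Y = f_* O_X`. -/
theorem isIso_unit {X Y : Scheme.{u}} (f : X ⟶ Y) (hf : ∀ U : Y.Opens, IsIso (f.app U))
    {M : Y.Modules} (hM : FlatMod.IsFinLocFree M) :
    IsIso ((Scheme.Modules.pullbackPushforwardAdjunction f).unit.app M) :=
  isIso_unit_of_hasBases f hf (HasBases.of_isFinLocFree hM)

/-- If the unit at `M` is an isomorphism and `E ≅ f^* M` then the counit at `E` is an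
isomorphism. -/
theorem isIso_counit_of_iso {X Y : Scheme.{u}} (f : X ⟶ Y) {M : Y.Modules}
    (h : IsIso ((Scheme.Modules.pullbackPushforwardAdjunction f).unit.app M)) {E : X.Modules}
    (e : E ≅ (Scheme.Modules.pullback f).obj M) :
    IsIso ((Scheme.Modules.pullbackPushforwardAdjunction f).counit.app E) := by
  have h1 := (Scheme.Modules.pullbackPushforwardAdjunction f).left_triangle_components M
  have h2 : IsIso ((Scheme.Modules.pullbackPushforwardAdjunction f).counit.app
      ((Scheme.Modules.pullback f).obj M)) := by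
    have h3 : IsIso ((Scheme.Modules.pullback f).map
      ((Scheme.Modules.pullbackPushforwardAdjunction f).unit.app M)) := inferInstance
    have h4 : IsIso ((Scheme.Modules.pullback f).map
      ((Scheme.Modules.pullbackPushforwardAdjunction f).unit.app M) ≫
      (Scheme.Modules.pullbackPushforwardAdjunction f).counit.app
        ((Scheme.Modules.pullback f).obj M)) := by
      rw [h1]
      infer_instance
    exact IsIso.of_isIso_comp_left ((Scheme.Modules.pullback f).map
      ((Scheme.Modules.pullbackPushforwardAdjunction f).unit.app M)) _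
  have h5 := (Scheme.Modules.pullbackPushforwardAdjunction f).counit.naturality e.hom
  have h6 : (Scheme.Modules.pullbackPushforwardAdjunction f).counit.app E =
      (Scheme.Modules.pushforward f ⋙ Scheme.Modules.pullback f).map e.hom ≫
        (Scheme.Modules.pullbackPushforwardAdjunction f).counit.app
          ((Scheme.Modules.pullback f).obj M) ≫ e.inv := by
    rw [← Category.assoc, h5]
    change _ = (_ ≫ e.hom) ≫ e.inv
    rw [Category.assoc, e.hom_inv_id, Category.comp_id]
  rw [h6]
  infer_instance

/-- The direct image of a module coming from the base. -/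
noncomputable def pushIso {X Y : Scheme.{u}} (f : X ⟶ Y) {M : Y.Modules}
    (h : IsIso ((Scheme.Modules.pullbackPushforwardAdjunction f).unit.app M)) {E : X.Modules}
    (e : E ≅ (Scheme.Modules.pullback f).obj M) :
    (Scheme.Modules.pushforward f).obj E ≅ M :=
  (Scheme.Modules.pushforward f).mapIso e ≪≫
    (asIso ((Scheme.Modules.pullbackPushforwardAdjunction f).unit.app M)).symm

end K245.DescUnit
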