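import Groth.Agent.S0981
import Groth.Agent.Fdesc.GeomConn
import Mathlib.AlgebraicGeometry.Geometrically.Reduced

/-!
# `f_* O = O` for flat proper morphisms with geometrically connected and reduced fibres
-/

set_option autoImplicit false
universe u

open AlgebraicGeometry CategoryTheory Limits

namespace K245.GeomCR

/-- `f_* O = O` for flat proper finitely presented morphisms with geometrically connected and
geometrically reduced fibres. -/
theorem isIso_app {X S : Scheme.{u}} (f : X ⟶ S) [IsProper f] [Flat f]
    [LocallyOfFinitePresentation f] [GeometricallyConnected f] [GeometricallyReduced f]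
    (V : S.Opens) : IsIso (f.app V) := by
  refine Groth.Agent.S0981.result f (fun K _ _ g => ⟨?_, ?_⟩) V
  · exact GeometricallyReduced.geometrically_isReduced _ _ _ (.of_hasPullback _ _)
  · exact GeometricallyConnected.geometrically_connectedSpace _ _ _ (.of_hasPullback _ _)

/-- Universal version. -/
theorem isIso_app_snd {X S T : Scheme.{u}} (f : X ⟶ S) [IsProper f] [Flat f]
    [LocallyOfFinitePresentation f] [GeometricallyConnected f] [GeometricallyReduced f]
    (t : T ⟶ S) (V : T.Opens) : IsIso ((pullback.snd f t).app V) :=
  isIso_app (pullback.snd f t) V

/-- A connected scheme over a field with a rational point is geometrically connected. -/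
theorem geometricallyConnected_of_point {k : Type u} [Field k] {X : Scheme.{u}} [ConnectedSpace X]
    (f : X ⟶ Spec (CommRingCat.of k)) (e : Spec (CommRingCat.of k) ⟶ X) (he : e ≫ f = 𝟙 _) :
    GeometricallyConnected f := by
  have : GeometricallyConnected (e ≫ f) := by
    rw [he]
    refine ⟨fun K _ y Z fst snd h => ?_⟩
    have : IsIso snd := h.isIso_snd_of_isIso
    exact (asIso snd).hom.homeomorph.connectedSpace_iff.mpr inferInstance
  exact Groth.Agent.Fdesc.GeomConn.geometricallyConnected_of_hom f e

end K245.GeomCR
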