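import Groth.Agent.Desc.ZarGlue
import Groth.Agent.Fga.QT9Loc

/-!
# Representability of Zariski sheaves tested on affine schemes over affine bases

* `univ_of_affine` : an element which is universal for affine test objects is universal.
* `exists_rep_of_charts` : a Zariski sheaf on `Over S` whose restriction along `Spec A ⟶ S` has, for all open
  immersions `Spec A ⟶ S`, an element universal for affine test objects, is representable.
-/

set_option autoImplicit false
universe u
open CategoryTheory CategoryTheory.Limits AlgebraicGeometry Opposite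

namespace K245.RepAff

open Groth.Agent.Picfga.OverRep Groth.Agent.Desc.ZarGlue Groth.Agent.Fga.NoethRep

variable {S : Scheme.{u}} {F : (Over S)ᵒᵖ ⥤ Type u}

/-- The cover of an object by its affine opens. -/
noncomputable def affCov (T : Over S) : Cov T where
  ι := T.left.affineOpens
  V U := Over.mk (U.1.ι ≫ T.hom)
  j U := res T U.1
  isOpen U := inferInstanceAs (IsOpenImmersion U.1.ι)
  covers t := by
    obtain ⟨U, hU, ht, -⟩ := exists_isAffineOpen_mem_and_subset (X := T.left) (x := t) (U := ⊤) trivial
    exact ⟨⟨U, hU⟩, ⟨t, ht⟩, rfl⟩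

theorem isAffine_affCov (T : Over S) (i : (affCov T).ι) : IsAffine ((affCov T).V i).left := i.2

/-- An element of a Zariski sheaf which is universal for affine test objects is universal. -/
theorem univ_of_affine (hF : IsZarSheaf F) {H : Over S} (ξ : F.obj (op H))
    (h : ∀ (T : Over S) [IsAffine T.left] (x : F.obj (op T)), ∃! g : T ⟶ H, F.map g.op ξ = x)
    (T : Over S) (x : F.obj (op T)) : ∃! g : T ⟶ H, F.map g.op ξ = x := by
  have huniq : ∀ (T : Over S) (g g' : T ⟶ H), F.map g.op ξ = F.map g'.op ξ → g = g' := by
    intro T g g' hg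
    refine hom_ext_cover T H (affCov T) g g' fun i => ?_
    have := isAffine_affCov T i
    refine (h ((affCov T).V i) (F.map ((affCov T).j i).op (F.map g'.op ξ))).unique ?_ ?_
    · rw [map_comp_apply, hg]
    · rw [map_comp_apply]
  have hex : ∀ i, ∃ k : (affCov T).V i ⟶ H, F.map k.op ξ = F.map ((affCov T).j i).op x := by
    intro i
    have := isAffine_affCov T i
    exact (h ((affCov T).V i) _).exists
  choose k hk using hex
  obtain ⟨g, hg⟩ := glue_hom T H (affCov T) k (by
    intro i j W a b hab
    apply huniq
    rw [map_comp_apply, map_comp_apply, hk, hk, ← map_comp_apply, ← map_comp_apply, hab])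
  refine ⟨g, ?_, fun g' hg' => huniq _ _ _ ?_⟩
  · refine hF.ext_cover T (affCov T) _ _ fun i => ?_
    rw [← map_comp_apply, hg, hk]
  · rw [hg']
    symm
    refine hF.ext_cover T (affCov T) _ _ fun i => ?_
    rw [← map_comp_apply, hg, hk]

section restr

variable {V O : Scheme.{u}} (v : V ⟶ S) (q : O ⟶ V) (o : O ⟶ S) (hc : q ≫ v = o) {A' : Over V}

/-- comparison iso -/
noncomputable def cmp3 (T : Over O) : (Over.map o).obj T ≅ (Over.map v).obj ((Over.map q).obj T) :=
  Over.isoMk (Iso.refl _) (by
    change 𝟙 _ ≫ (T.hom ≫ q) ≫ v = T.hom ≫ o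
    rw [Category.id_comp, Category.assoc, hc])

/-- Base change of a representing object. -/
noncomputable def repRestrict (r : ((Over.map v).op ⋙ F).RepresentableBy A') :
    ((Over.map o).op ⋙ F).RepresentableBy ((Over.pullback q).obj A') where
  homEquiv {T} := ((Over.mapPullbackAdj q).homEquiv T A').symm.trans
    (r.homEquiv.trans (F.mapIso (cmp3 v q o hc T).op).toEquiv)
  homEquiv_comp {T T'} f g := by
    change F.map _ (r.homEquiv (((Over.mapPullbackAdj q).homEquiv T A').symm (f ≫ g))) =
      F.map _ (F.map _ (r.homEquiv (((Over.mapPullbackAdj q).homEquiv T' A').symm g)))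
    rw [Adjunction.homEquiv_naturality_left_symm, r.homEquiv_comp]
    change F.map _ (F.map _ _) = _
    rw [← Functor.map_comp_apply, ← Functor.map_comp_apply]
    congr 2

end restr

/-- Representability of a Zariski sheaf, from universal elements over affine opens of the base, tested on affine
schemes. -/
theorem exists_rep_of_charts (hF : IsZarSheaf F) (P : MorphismProperty Scheme.{u})
    [IsZariskiLocalAtTarget P] [P.IsStableUnderBaseChange]
    (h : ∀ (A : CommRingCat.{u}) (j : Spec A ⟶ S) [IsOpenImmersion j],
      ∃ (H : Over (Spec A)) (ξ : F.obj (op ((Over.map j).obj H))), P H.hom ∧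
        ∀ (T : Over (Spec A)) [IsAffine T.left] (x : F.obj (op ((Over.map j).obj T))),
          ∃! g : T ⟶ H, F.map ((Over.map j).map g).op ξ = x) :
    ∃ H : Over S, P H.hom ∧ Nonempty (F.RepresentableBy H) := by
  have key : ∀ W : S.affineOpens, ∃ U : Over W.1.toScheme, P U.hom ∧
      Nonempty (((Over.map W.1.ι).op ⋙ F).RepresentableBy U) := by
    intro W
    have := W.2.isOpenImmersion_fromSpec
    obtain ⟨H, ξ, hP, hH⟩ := h _ W.2.fromSpec
    have r : ((Over.map W.2.fromSpec).op ⋙ F).RepresentableBy H :=
      repOfUniversal (F := restr W.2.fromSpec F) ξ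
        (univ_of_affine (isZarSheaf_restr W.2.fromSpec hF) ξ fun T _ x => hH T x)
    refine ⟨(Over.pullback W.2.isoSpec.hom).obj H, ?_, ⟨repRestrict W.2.fromSpec W.2.isoSpec.hom W.1.ι ?_ r⟩⟩
    · exact P.pullback_snd _ _ hP
    · exact W.2.isoSpec_hom_fromSpec
  choose U hP r using key
  exact exists_rep_of_openCover_prop (fun W : S.affineOpens => W.1) (fun s => by
    obtain ⟨U, hU, ht, -⟩ := exists_isAffineOpen_mem_and_subset (X := S) (x := s) (U := ⊤) trivial
    exact ⟨⟨U, hU⟩, ht⟩) U (fun W => (r W).some) hF P hP

end K245.RepAff
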