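import Groth.Agent.Ega43.FPOfComp
import Mathlib.AlgebraicGeometry.Morphisms.Separated
import Mathlib.AlgebraicGeometry.Morphisms.Affine

/-!
# Products and equalizers of schemes affine and of finite presentation over a base
-/

set_option autoImplicit false
universe u
open CategoryTheory CategoryTheory.Limits AlgebraicGeometry

namespace K245.OverEq

variable {S : Scheme.{u}}

theorem lfp_diagonal {X : Scheme.{u}} (f : X ⟶ S) [LocallyOfFiniteType f] :
    LocallyOfFinitePresentation (pullback.diagonal f) := by
  have : LocallyOfFinitePresentation (pullback.diagonal f ≫ pullback.fst f f) := by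
    rw [pullback.diagonal_fst]
    infer_instance
  exact Groth.Agent.Ega43.FPOfComp.locallyOfFinitePresentation_of_comp _ (pullback.fst f f)

/-- Equalizers over `S`. -/
theorem exists_equalizer {P C : Over S} (c c' : P ⟶ C) [IsSeparated C.hom] [LocallyOfFiniteType C.hom] :
    ∃ (E : Over S) (i : E ⟶ P), IsClosedImmersion i.left ∧ LocallyOfFinitePresentation i.left ∧
      i ≫ c = i ≫ c' ∧ ∀ (T : Over S) (t : T ⟶ P), t ≫ c = t ≫ c' → ∃! t' : T ⟶ E, t' ≫ i = t := by
  let j : P.left ⟶ pullback C.hom C.hom := pullback.lift c.left c'.left (by rw [Over.w c, Over.w c'])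
  let E : Over S := Over.mk (pullback.fst j (pullback.diagonal C.hom) ≫ P.hom)
  let i : E ⟶ P := Over.homMk (pullback.fst j (pullback.diagonal C.hom)) rfl
  have := lfp_diagonal C.hom
  have hj1 : j ≫ pullback.fst C.hom C.hom = c.left := pullback.lift_fst _ _ _
  have hj2 : j ≫ pullback.snd C.hom C.hom = c'.left := pullback.lift_snd _ _ _
  have h1 : i.left ≫ c.left = pullback.snd j (pullback.diagonal C.hom) := by
    have := congrArg (fun t => t ≫ pullback.fst C.hom C.hom) (pullback.condition (f := j) (g := pullback.diagonal C.hom))
    rw [Category.assoc, Category.assoc, hj1, pullback.diagonal_fst, Category.comp_id] at this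
    exact this
  have h2 : i.left ≫ c'.left = pullback.snd j (pullback.diagonal C.hom) := by
    have := congrArg (fun t => t ≫ pullback.snd C.hom C.hom) (pullback.condition (f := j) (g := pullback.diagonal C.hom))
    rw [Category.assoc, Category.assoc, hj2, pullback.diagonal_snd, Category.comp_id] at this
    exact this
  refine ⟨E, i, inferInstanceAs (IsClosedImmersion (pullback.fst j (pullback.diagonal C.hom))),
    inferInstanceAs (LocallyOfFinitePresentation (pullback.fst j (pullback.diagonal C.hom))), ?_, ?_⟩
  · ext
    exact h1.trans h2.symm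
  · intro T t ht
    have ht' : t.left ≫ c.left = t.left ≫ c'.left := congrArg CommaMorphism.left ht
    have hl : t.left ≫ j = (t.left ≫ c.left) ≫ pullback.diagonal C.hom := by
      apply pullback.hom_ext
      · rw [Category.assoc, Category.assoc, hj1, pullback.diagonal_fst, Category.comp_id]
      · rw [Category.assoc, Category.assoc, hj2, pullback.diagonal_snd, Category.comp_id, ht']
    refine ⟨Over.homMk (pullback.lift t.left (t.left ≫ c.left) hl) ?_, ?_, ?_⟩
    · change _ ≫ pullback.fst j (pullback.diagonal C.hom) ≫ P.hom = _
      rw [pullback.lift_fst_assoc, Over.w]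
    · ext
      exact pullback.lift_fst _ _ _
    · intro t' h'
      ext
      apply pullback.hom_ext
      · have := congrArg CommaMorphism.left h'
        exact this.trans (pullback.lift_fst _ _ _).symm
      · have h3 := congrArg CommaMorphism.left h'
        change t'.left ≫ pullback.fst j (pullback.diagonal C.hom) = t.left at h3
        change t'.left ≫ pullback.snd j (pullback.diagonal C.hom) =
          pullback.lift t.left (t.left ≫ c.left) hl ≫ pullback.snd j (pullback.diagonal C.hom)
        rw [pullback.lift_snd, ← h1, ← h3]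
        exact (Category.assoc _ _ _).symm

/-- Products over `S`. -/
theorem exists_prod (A B : Over S) [IsAffineHom A.hom] [IsAffineHom B.hom] [LocallyOfFinitePresentation A.hom]
    [LocallyOfFinitePresentation B.hom] : ∃ (P : Over S) (a : P ⟶ A) (b : P ⟶ B), IsAffineHom P.hom ∧
      LocallyOfFinitePresentation P.hom ∧ ∀ (T : Over S) (x : T ⟶ A) (y : T ⟶ B),
        ∃! t : T ⟶ P, t ≫ a = x ∧ t ≫ b = y := by
  let P : Over S := Over.mk (pullback.fst A.hom B.hom ≫ A.hom)
  let a : P ⟶ A := Over.homMk (pullback.fst A.hom B.hom) rfl
  let b : P ⟶ B := Over.homMk (pullback.snd A.hom B.hom) (by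
    change pullback.snd A.hom B.hom ≫ B.hom = pullback.fst A.hom B.hom ≫ A.hom
    rw [pullback.condition])
  have hfst : IsAffineHom (pullback.fst A.hom B.hom) := MorphismProperty.pullback_fst _ _ inferInstance
  refine ⟨P, a, b, MorphismProperty.comp_mem @IsAffineHom _ _ hfst inferInstance,
    inferInstanceAs (LocallyOfFinitePresentation (pullback.fst A.hom B.hom ≫ A.hom)), fun T x y => ?_⟩
  refine ⟨Over.homMk (pullback.lift x.left y.left (by rw [Over.w, Over.w])) ?_, ⟨?_, ?_⟩, ?_⟩
  · change _ ≫ pullback.fst A.hom B.hom ≫ A.hom = _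
    rw [pullback.lift_fst_assoc, Over.w]
  · ext
    exact pullback.lift_fst _ _ _
  · ext
    exact pullback.lift_snd _ _ _
  · rintro t ⟨h1, h2⟩
    ext
    apply pullback.hom_ext
    · exact (congrArg CommaMorphism.left h1).trans (pullback.lift_fst _ _ _).symm
    · exact (congrArg CommaMorphism.left h2).trans (pullback.lift_snd _ _ _).symm

end K245.OverEq
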