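import Groth.Agent.PicF.K245.SecMain
import Groth.Agent.PicF.K245.OverEq
import Groth.Agent.PicF.K245.HomBC
import Groth.Agent.Grpsch.CubeClosed

/-!
# Representability of `Isom(L_T, M_T)`
-/

set_option autoImplicit false
universe u
open CategoryTheory CategoryTheory.Limits AlgebraicGeometry Opposite TopologicalSpace

namespace K245.IsomRep

open K245.HomBC K245.SecFun
open Groth.Agent.CohqB.HomSheaf (homSheaf)
open Groth.Agent.Picfga.HilbPull (XTmap_fst XTmap_comp XTmap_id)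

section Bc

variable {X S : Scheme.{u}} (f : X ⟶ S) {L M N : X.Modules}

/-- Base change of homomorphisms. -/
noncomputable def hbc {T T' : Over S} (g : T' ⟶ T) (w : FGA.ET f L T ⟶ FGA.ET f M T) :
    FGA.ET f L T' ⟶ FGA.ET f M T' :=
  (FGA.ETiso f L g).inv ≫ (Scheme.Modules.pullback (PicF.XTmap f g)).map w ≫ (FGA.ETiso f M g).hom

theorem hbc_comp {T T' : Over S} (g : T' ⟶ T) (w : FGA.ET f L T ⟶ FGA.ET f M T)
    (w' : FGA.ET f M T ⟶ FGA.ET f N T) : hbc f g (w ≫ w') = hbc f g w ≫ hbc f g w' := by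
  unfold hbc
  rw [Functor.map_comp, Category.assoc, Category.assoc, Category.assoc, Iso.hom_inv_id_assoc]

theorem hbc_id {T T' : Over S} (g : T' ⟶ T) : hbc f g (𝟙 (FGA.ET f L T)) = 𝟙 _ := by
  unfold hbc
  rw [CategoryTheory.Functor.map_id, Category.id_comp, Iso.inv_hom_id]

theorem hbc_secHom (hL : PicF.IsInvertible L) {T T' : Over S} (g : T' ⟶ T)
    (s : Γ((Scheme.Modules.pullback (pullback.fst f T.hom)).obj (homSheaf L M), ⊤)) :
    hbc f g (secHom (pullback.fst f T.hom) L M s) =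
      secHom (pullback.fst f T'.hom) L M (trT (PicF.XTmap f g) (pullback.fst f T.hom)
        (pullback.fst f T'.hom) (XTmap_fst f g) (homSheaf L M) s) :=
  (secHom_tr (PicF.XTmap f g) (pullback.fst f T.hom)
        (pullback.fst f T'.hom) (XTmap_fst f g) hL s).symm

theorem hbc_hbc (hL : PicF.IsInvertible L) (hM : PicF.IsInvertible M) {T T' T'' : Over S} (g : T' ⟶ T)
    (g' : T'' ⟶ T') (w : FGA.ET f L T ⟶ FGA.ET f M T) : hbc f g' (hbc f g w) = hbc f (g' ≫ g) w := by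
  obtain ⟨s, rfl⟩ := (secHom_bijective (pullback.fst f T.hom) hL hM).2 w
  rw [hbc_secHom f hL, hbc_secHom f hL, hbc_secHom f hL]
  rw [trT_comp (PicF.XTmap f (g' ≫ g)) (XTmap_comp f g' g).symm (XTmap_fst f (g' ≫ g))
    (Groth.Agent.PerfA.QCohEpi.isQCoh_of_isFinLocFree
      (Groth.Agent.Grpsch.CubeClosed.isFinLocFree_of_isInvertible (isInvertible_homSheaf hL hM)))]

/-- Base change of isomorphisms. -/
noncomputable def ibc {T T' : Over S} (g : T' ⟶ T) (u : FGA.ET f L T ≅ FGA.ET f M T) :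
    FGA.ET f L T' ≅ FGA.ET f M T' :=
  (FGA.ETiso f L g).symm ≪≫ (Scheme.Modules.pullback (PicF.XTmap f g)).mapIso u ≪≫ FGA.ETiso f M g

theorem ibc_hom {T T' : Over S} (g : T' ⟶ T) (u : FGA.ET f L T ≅ FGA.ET f M T) :
    (ibc f g u).hom = hbc f g u.hom := rfl

theorem ibc_inv {T T' : Over S} (g : T' ⟶ T) (u : FGA.ET f L T ≅ FGA.ET f M T) :
    (ibc f g u).inv = hbc f g u.inv := by
  unfold ibc hbc
  simp

end Bc

section Rep

variable {X S : Scheme.{u}} (f : X ⟶ S) [IsProper f] [Flat f] [LocallyOfFinitePresentation f]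
  {L M : X.Modules} (hL : PicF.IsInvertible L) (hM : PicF.IsInvertible M)

include hL hM in
theorem exists_hom_rep : ∃ (H : Over S) (w : FGA.ET f L H ⟶ FGA.ET f M H), IsAffineHom H.hom ∧
    LocallyOfFinitePresentation H.hom ∧
    ∀ (T : Over S) (v : FGA.ET f L T ⟶ FGA.ET f M T), ∃! g : T ⟶ H, hbc f g w = v := by
  have hK := Groth.Agent.Grpsch.CubeClosed.isFinLocFree_of_isInvertible (isInvertible_homSheaf hL hM)
  have hQ := Groth.Agent.PerfA.QCohEpi.isQCoh_of_isFinLocFree hK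
  obtain ⟨H, ⟨h1, h2⟩, ⟨r⟩⟩ := K245.SecRep.exists_rep f hQ hK
  have hr : ∀ {T : Over S} (g : T ⟶ H), r.homEquiv g = trT (PicF.XTmap f g) (pullback.fst f H.hom)
      (pullback.fst f T.hom) (XTmap_fst f g) (homSheaf L M) (r.homEquiv (𝟙 H)) := by
    intro T g
    rw [r.homEquiv_eq g]
    rfl
  refine ⟨H, secHom (pullback.fst f H.hom) L M (r.homEquiv (𝟙 H)), h1, h2, fun T v => ?_⟩
  obtain ⟨s, rfl⟩ := (secHom_bijective (pullback.fst f T.hom) hL hM).2 v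
  refine ⟨r.homEquiv.symm s, ?_, fun g hg => ?_⟩
  · dsimp only
    rw [hbc_secHom f hL, ← hr]
    exact congrArg _ (r.homEquiv.apply_symm_apply s)
  · dsimp only at hg
    rw [hbc_secHom f hL, ← hr] at hg
    rw [Equiv.eq_symm_apply]
    exact (secHom_bijective (pullback.fst f T.hom) hL hM).1 hg

include hL hM in
theorem exists_isom_rep : ∃ (I : Over S) (u : FGA.ET f L I ≅ FGA.ET f M I), IsAffineHom I.hom ∧
    LocallyOfFinitePresentation I.hom ∧
    ∀ (T : Over S) (v : FGA.ET f L T ≅ FGA.ET f M T), ∃! g : T ⟶ I, ibc f g u = v := by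
  obtain ⟨A, wA, hA1, hA2, hA⟩ := exists_hom_rep f hL hM
  obtain ⟨B, wB, hB1, hB2, hB⟩ := exists_hom_rep f hM hL
  obtain ⟨C, wC, hC1, hC2, hC⟩ := exists_hom_rep f hL hL
  obtain ⟨D, wD, hD1, hD2, hD⟩ := exists_hom_rep f hM hM
  obtain ⟨P, a, b, hP1, hP2, hP⟩ := K245.OverEq.exists_prod A B
  obtain ⟨c, hc, -⟩ := hC P (hbc f a wA ≫ hbc f b wB)
  obtain ⟨c', hc', -⟩ := hC P (𝟙 _)
  obtain ⟨d, hd, -⟩ := hD P (hbc f b wB ≫ hbc f a wA)
  obtain ⟨d', hd', -⟩ := hD P (𝟙 _)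
  obtain ⟨E, i, hi1, hi2, hi3, hi⟩ := K245.OverEq.exists_equalizer c c'
  obtain ⟨I, i', hi1', hi2', hi3', hi'⟩ := K245.OverEq.exists_equalizer (i ≫ d) (i ≫ d')
  -- the universal isomorphism
  have hu1 : hbc f (i' ≫ i ≫ a) wA ≫ hbc f (i' ≫ i ≫ b) wB = 𝟙 _ := by
    have e1 : hbc f i (hbc f a wA ≫ hbc f b wB) = 𝟙 _ := by
      rw [← hc, hbc_hbc f hL hL, hi3, ← hbc_hbc f hL hL, hc', hbc_id]
    have e2 := congrArg (hbc f i') e1
    rw [hbc_id, hbc_comp, hbc_comp, hbc_hbc f hL hM, hbc_hbc f hL hM, hbc_hbc f hM hL, hbc_hbc f hM hL] at e2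
    exact e2
  have hu2 : hbc f (i' ≫ i ≫ b) wB ≫ hbc f (i' ≫ i ≫ a) wA = 𝟙 _ := by
    have e1 : hbc f i' (hbc f i (hbc f b wB ≫ hbc f a wA)) = 𝟙 _ := by
      rw [← hd, hbc_hbc f hM hM, hbc_hbc f hM hM, Category.assoc, hi3', ← Category.assoc, ← hbc_hbc f hM hM, hd',
        hbc_id]
    rw [hbc_comp, hbc_comp, hbc_hbc f hL hM, hbc_hbc f hL hM, hbc_hbc f hM hL, hbc_hbc f hM hL] at e1
    exact e1
  let uI : FGA.ET f L I ≅ FGA.ET f M I := ⟨hbc f (i' ≫ i ≫ a) wA, hbc f (i' ≫ i ≫ b) wB, hu1, hu2⟩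
  refine ⟨I, uI, ?_, ?_, fun T v => ?_⟩
  · rw [← Over.w i', ← Over.w i]
    have h1 : IsAffineHom i.left := inferInstance
    have h2 : IsAffineHom i'.left := inferInstance
    exact MorphismProperty.comp_mem @IsAffineHom _ _ h2 (MorphismProperty.comp_mem @IsAffineHom _ _ h1 hP1)
  · rw [← Over.w i', ← Over.w i]
    infer_instance
  · obtain ⟨x, hx, hx'⟩ := hA T v.hom
    obtain ⟨y, hy, hy'⟩ := hB T v.inv
    obtain ⟨t, ⟨ht1, ht2⟩, ht'⟩ := hP T x y
    have e1 : t ≫ c = t ≫ c' := by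
      refine (hC T (𝟙 _)).unique ?_ ?_
      · rw [← hbc_hbc f hL hL, hc, hbc_comp, hbc_hbc f hL hM, hbc_hbc f hM hL, ht1, ht2, hx, hy, v.hom_inv_id]
      · rw [← hbc_hbc f hL hL, hc', hbc_id]
    have e2 : t ≫ d = t ≫ d' := by
      refine (hD T (𝟙 _)).unique ?_ ?_
      · rw [← hbc_hbc f hM hM, hd, hbc_comp, hbc_hbc f hL hM, hbc_hbc f hM hL, ht1, ht2, hx, hy, v.inv_hom_id]
      · rw [← hbc_hbc f hM hM, hd', hbc_id]
    obtain ⟨t₁, ht₁, ht₁'⟩ := hi T t e1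
    obtain ⟨t₂, ht₂, ht₂'⟩ := hi' T t₁ (by rw [← Category.assoc, ← Category.assoc, ht₁, e2])
    refine ⟨t₂, ?_, fun g hg => ?_⟩
    · ext1
      rw [ibc_hom]
      change hbc f t₂ (hbc f (i' ≫ i ≫ a) wA) = v.hom
      rw [hbc_hbc f hL hM, ← Category.assoc, ht₂, ← Category.assoc, ht₁, ht1, hx]
    · have hg1 : hbc f g (hbc f (i' ≫ i ≫ a) wA) = v.hom := congrArg Iso.hom hg
      have hg2 : hbc f g (hbc f (i' ≫ i ≫ b) wB) = v.inv := (ibc_inv f g uI).symm.trans (congrArg Iso.inv hg)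
      rw [hbc_hbc f hL hM] at hg1
      rw [hbc_hbc f hM hL] at hg2
      apply ht₂'
      apply ht₁'
      apply ht'
      refine ⟨?_, ?_⟩
      · rw [Category.assoc, Category.assoc]
        exact hx' _ hg1
      · rw [Category.assoc, Category.assoc]
        exact hy' _ hg2

end Rep

end K245.IsomRep
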