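import Groth.Agent.Grpsch.CubeTriv

/-!
# The theorem of the cube without connectedness of the base: the trivial locus is open and closed
-/

set_option autoImplicit false
universe u v

open AlgebraicGeometry CategoryTheory Limits IsLocalRing
open Groth.Agent.Fdesc Groth.Agent.Fdesc.LocGen
open Groth.Agent.Grpsch Groth.Agent.Grpsch.CubeData

namespace K245.CubeClopen

/-- Triviality over the preimage of the range of an open immersion. -/
lemma triv_preimage_opensRange {P S W : Scheme.{u}} (p : P ⟶ S) (j : W ⟶ S) [IsOpenImmersion j]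
    (L : P.Modules) (h : Triv ((Scheme.Modules.pullback (pullback.fst p j)).obj L)) :
    Triv ((Scheme.Modules.pullback (p ⁻¹ᵁ j.opensRange).ι).obj L) := by
  have hr : Set.range ((p ⁻¹ᵁ j.opensRange).ι ≫ p) ⊆ Set.range j := by
    rintro _ ⟨x, rfl⟩
    have hx : (p ⁻¹ᵁ j.opensRange).ι x ∈ p ⁻¹ᵁ j.opensRange := by
      have := x.2
      simpa using this
    rw [Scheme.Hom.comp_apply]
    exact hx
  let l : (p ⁻¹ᵁ j.opensRange : Scheme.{u}) ⟶ pullback p j :=
    pullback.lift (p ⁻¹ᵁ j.opensRange).ι (IsOpenImmersion.lift j _ hr)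
      (IsOpenImmersion.lift_fac j _ hr).symm
  have hl : l ≫ pullback.fst p j = (p ⁻¹ᵁ j.opensRange).ι := pullback.lift_fst _ _ _
  rw [← triv_congr hl, triv_comp]
  exact h.pullback l

lemma triv_preimage_congr {P S : Scheme.{u}} {f g : P ⟶ S} (h : f = g) (W : S.Opens)
    (L : P.Modules) (hL : Triv ((Scheme.Modules.pullback (f ⁻¹ᵁ W).ι).obj L)) :
    Triv ((Scheme.Modules.pullback (g ⁻¹ᵁ W).ι).obj L) := by
  subst h
  exact hL

variable {S : Scheme.{u}} {D : Data S}

/-- **Theorem of the cube**: the locus over which the module is trivial is open and closed. -/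
theorem exists_clopen (h : D.Good) (L : D.P.Modules) (hL : PicF.IsInvertible L)
    (hs : Triv ((Scheme.Modules.pullback D.s).obj L))
    (hs' : Triv ((Scheme.Modules.pullback D.s').obj L)) (z : S)
    (hz : Triv ((Scheme.Modules.pullback (D.p.fiberι z)).obj L)) :
    ∃ W : S.Opens, IsClosed (W : Set S) ∧ z ∈ W ∧
      Triv ((Scheme.Modules.pullback (D.p ⁻¹ᵁ W).ι).obj L) := by
  have := h.flat
  have := h.proper
  have := h.lfp
  have := h.gi
  obtain ⟨W, j, hj1, hj2, hj⟩ := Groth.Agent.S1431.result D.p
    (fun T g U => isIso_app (pullback.snd D.p g) U) L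
    (CubeClosed.isFinLocFree_of_isInvertible hL)
  have key : ∀ (T : Scheme.{u}) (a : T ⟶ S), (∃ g', g' ≫ j = a) ↔
      Triv ((Scheme.Modules.pullback (pullback.fst D.p a)).obj L) :=
    fun T a => (hj T a).trans (D.exists_iff_triv a L hs)
  have hopen : IsOpenImmersion j :=
    CubeOpen2.isOpenImmersion_of_lift j (fun z I₁ t ht htm hmt hg => (key _ _).mpr
      (h.triv_of_quot L hL hs hs' (S.presheaf.stalk z) (S.fromSpecStalk z) I₁ t ht htm hmt
        ((key _ _).mp hg)))
  have hrange : Set.range j = {z : S | Nonempty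
      ((Scheme.Modules.pullback (D.p.fiberι z)).obj L ≅ Coh.structureModule (D.p.fiber z))} := by
    ext z
    have h1 := key _ (S.fromSpecResidueField z)
    constructor
    · rintro ⟨w, rfl⟩
      have h2 : Set.range (S.fromSpecResidueField (j w)) ⊆ Set.range j := by
        rw [Scheme.range_fromSpecResidueField]
        rintro _ rfl
        exact ⟨w, rfl⟩
      exact h1.mp ⟨IsOpenImmersion.lift j _ h2, IsOpenImmersion.lift_fac j _ h2⟩
    · intro hz
      obtain ⟨g', hg'⟩ := h1.mpr hz
      obtain ⟨pt⟩ : Nonempty (Spec (S.residueField z)) := inferInstance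
      refine ⟨g' pt, ?_⟩
      rw [← Scheme.Hom.comp_apply, hg', Scheme.fromSpecResidueField_apply]
  have hclosed : IsClosed (Set.range j) := by
    rw [hrange]
    exact CubeClosed.isClosed_trivialLocus D.p L hL
  refine ⟨j.opensRange, ?_, ?_, ?_⟩
  · simpa using hclosed
  · have h3 : z ∈ Set.range j := by
      rw [hrange]
      exact hz
    exact h3
  · exact triv_preimage_opensRange D.p j L ((key W j).mp ⟨𝟙 W, Category.id_comp j⟩)

end K245.CubeClopen
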