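import Groth.Agent.PicF.K245.SecChart
import Groth.Agent.Flat2F.DescLocal2

/-!
# Representability of the functor of sections

`f : X ⟶ S` proper, flat, locally of finite presentation, `K` finite locally free on `X`: the functor
`T ↦ Γ(X_T, K_T)` is represented by an `S`-scheme which is affine and of finite presentation over `S`.
-/

set_option autoImplicit false
universe u
open CategoryTheory CategoryTheory.Limits AlgebraicGeometry Opposite TopologicalSpace

namespace K245.SecRep

open K245.SecFun

variable {X S : Scheme.{u}} (f : X ⟶ S)

theorem isAffineHom_symOver {A : CommRingCat.{u}} (j : Spec A ⟶ S) {K : X.Modules}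
    (R : Groth.Agent.Flat2F.BCSec.RepH0 (pullback.snd f j) ((Scheme.Modules.pullback (pullback.fst f j)).obj K)) :
    (@IsAffineHom ⊓ @LocallyOfFinitePresentation : MorphismProperty Scheme.{u}) (symOver f j R).hom := by
  refine ⟨?_, ?_⟩
  · change IsAffineHom (Spec.map (toSym R))
    infer_instance
  · have := R.fp
    have h1 := Groth.Agent.Smoothlim.SymAlg.finitePresentation A R.M
    change LocallyOfFinitePresentation (Spec.map (toSym R))
    rw [HasRingHomProperty.Spec_iff (P := @LocallyOfFinitePresentation)]
    exact RingHom.finitePresentation_algebraMap.mpr h1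

/-- The functor of sections of a finite locally free module is represented by an affine scheme of finite
presentation over the base. -/
theorem exists_rep [IsProper f] [Flat f] [LocallyOfFinitePresentation f] {K : X.Modules} (hK : Coh.IsQCoh K) (hK' : FlatMod.IsFinLocFree K) :
    ∃ H : Over S, (IsAffineHom H.hom ∧ LocallyOfFinitePresentation H.hom) ∧
      Nonempty ((secF f hK).RepresentableBy H) := by
  refine K245.RepAff.exists_rep_of_charts (isZarSheaf_secF f hK)
    (@IsAffineHom ⊓ @LocallyOfFinitePresentation) fun A j _ => ?_
  obtain ⟨R⟩ := Groth.Agent.Flat2F.RepH0.exists_repH0 (pullback.snd f j)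
    ((Scheme.Modules.pullback (pullback.fst f j)).obj K)
    (Groth.Agent.Flat2F.DescLocal.isFinLocFree_pullback' _ hK')
  exact ⟨symOver f j R, univSec f j R, isAffineHom_symOver f j R, fun T _ x => univSec_spec f j R T x⟩

end K245.SecRep
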